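import Mathlib
import Cfsg.Prelude.Def_LieRecognition
import Cfsg.Prelude.Def_Involutions
import Cfsg.Prelude.Def_Exceptional
import Cfsg.Agent.H39.StronglyEmbedded
import Cfsg.Agent.S0225
import Cfsg.Agent.S1162
import Cfsg.Agent.S1163

/-!
From the rank-one classification to the recognition of simple groups with a strongly embedded
subgroup doubly transitive with a regular normal subgroup.
-/

set_option autoImplicit false

namespace Cfsg.Agent.H48.RankOne

open MulAction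

universe u v

/-- The rank-one classification, as a proposition. -/
def Recognition : Prop :=
  ∀ {G : Type u} {Ω : Type v} [Group G] [Finite G] [MulAction G Ω] [FaithfulSMul G Ω] {a : Ω} {t : G}
    {Q : Subgroup G}, Cfsg.IsRankOneSetup G Ω a t Q →
    (∃ x y : G, x ≠ 1 ∧ y ≠ 1 ∧ x ≠ y ∧ x * x = 1 ∧ y * y = 1 ∧ x * y = y * x) →
    ∃ L : Subgroup G, L.Normal ∧ Odd L.index ∧
      ((∃ (F : Type) (_ : Field F) (_ : Fintype F), (∃ n : ℕ, 2 ≤ n ∧ Fintype.card F = 2 ^ n) ∧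
          Nonempty (L ≃* Matrix.ProjectiveSpecialLinearGroup (Fin 2) F)) ∨
        Cfsg.Lie.IsoSuzuki L ∨
        (∃ (F : Type) (_ : Field F) (_ : Fintype F) (n : ℕ), 2 ≤ n ∧ Fintype.card F = (2 ^ n) ^ 2 ∧
          Nonempty (L ≃* Cfsg.PSU 3 F (2 ^ n))))

variable {G : Type u} [Group G] [Finite G]

theorem eq_center_top_contra [IsSimpleGroup G] {H : Subgroup G} (hH : H ≠ ⊤) {x : G} (hx : x ∈ H)
    (hx1 : x ≠ 1) (hc : Subgroup.center G ≠ ⊥) : False := by
  have hz : Subgroup.center G = ⊤ :=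
    ((Subgroup.instNormalCenter (G := G)).eq_bot_or_eq_top).resolve_left hc
  have hHn : H.Normal := ⟨fun n hn g => by
    have hg : n * g = g * n := (Subgroup.mem_center_iff.1 (hz ▸ Subgroup.mem_top n) g).symm
    rw [← hg, mul_inv_cancel_right]; exact hn⟩
  rcases hHn.eq_bot_or_eq_top with h | h
  · rw [h, Subgroup.mem_bot] at hx; exact hx1 hx
  · exact hH h

theorem exists_two_commuting [IsSimpleGroup G] {H : Subgroup G} (hH : H ≠ ⊤)
    (heven : Even (Nat.card H)) :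
    ∃ x y : G, x ≠ 1 ∧ y ≠ 1 ∧ x ≠ y ∧ x * x = 1 ∧ y * y = 1 ∧ x * y = y * x := by
  classical
  by_contra hno
  obtain ⟨x, hx⟩ := exists_prime_orderOf_dvd_card' (G := H) 2 (even_iff_two_dvd.1 heven)
  have hx1 : (x : G) ≠ 1 := fun e => by
    have : x = 1 := Subtype.ext e
    rw [this, orderOf_one] at hx; omega
  have hev : Even (Nat.card G) := even_iff_two_dvd.2
    ((even_iff_two_dvd.1 heven).trans (Subgroup.card_subgroup_dvd_card H))
  have hrank : ∀ E : Subgroup G, ¬ IsKleinFour E := by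
    intro E hE
    have hc : Nat.card E = 4 := IsKleinFour.card_four
    obtain ⟨x', hx', y', hy', hne⟩ : ∃ x' : E, x' ≠ 1 ∧ ∃ y' : E, y' ≠ 1 ∧ x' ≠ y' := by
      have := Fintype.ofFinite E
      rw [Nat.card_eq_fintype_card] at hc
      have h3 : 1 < (Finset.univ.erase (1 : E)).card := by
        rw [Finset.card_erase_of_mem (Finset.mem_univ _), Finset.card_univ, hc]; norm_num
      obtain ⟨p, hp, q, hq, hpq⟩ := Finset.one_lt_card.1 h3
      exact ⟨p, Finset.ne_of_mem_erase hp, q, Finset.ne_of_mem_erase hq, hpq⟩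
    refine hno ⟨x', y', fun e => hx' (Subtype.ext e), fun e => hy' (Subtype.ext e),
      fun e => hne (Subtype.ext e), ?_, ?_, ?_⟩
    · exact congrArg Subtype.val (IsKleinFour.mul_self x')
    · exact congrArg Subtype.val (IsKleinFour.mul_self y')
    · exact congrArg Subtype.val (mul_comm_of_exponent_two IsKleinFour.exponent_two x' y')
  obtain ⟨z, hz, N, hN, hNodd, hzN⟩ := S0225.result hev hrank
  have hNb : N = ⊥ := by
    refine hN.eq_bot_or_eq_top.resolve_right fun h => ?_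
    rw [h, Subgroup.card_top] at hNodd
    exact (Nat.not_even_iff_odd.2 hNodd) hev
  refine eq_center_top_contra hH x.2 hx1 fun hbot => ?_
  have hzc : z ∈ Subgroup.center G := Subgroup.mem_center_iff.2 fun g => by
    have := hzN g
    rw [hNb, Subgroup.mem_bot, mul_inv_eq_one, mul_inv_eq_iff_eq_mul] at this
    exact this.symm
  rw [hbot, Subgroup.mem_bot] at hzc
  rw [hzc, orderOf_one] at hz; omega

theorem eq_top_of_normal_odd_index [IsSimpleGroup G] (hev : Even (Nat.card G)) {L : Subgroup G}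
    (hn : L.Normal) (hi : Odd L.index) : L = ⊤ := by
  refine hn.eq_bot_or_eq_top.resolve_left fun h => ?_
  rw [h, Subgroup.index_bot] at hi
  exact (Nat.not_even_iff_odd.2 hi) hev

/-- The recognition of a simple group in a rank-one set-up with two commuting involutions. -/
theorem simple_classification (hrec : Recognition.{u, v}) [IsSimpleGroup G] {Ω : Type v}
    [MulAction G Ω] [FaithfulSMul G Ω] {a : Ω} {t : G} {Q : Subgroup G}
    (hS : Cfsg.IsRankOneSetup G Ω a t Q)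
    (h2 : ∃ x y : G, x ≠ 1 ∧ y ≠ 1 ∧ x ≠ y ∧ x * x = 1 ∧ y * y = 1 ∧ x * y = y * x) :
    (∃ (F : Type) (_ : Field F) (_ : Fintype F), (∃ n : ℕ, 2 ≤ n ∧ Fintype.card F = 2 ^ n) ∧
        Nonempty (G ≃* Matrix.ProjectiveSpecialLinearGroup (Fin 2) F)) ∨
      Cfsg.IsSuzuki G ∨
      (∃ (F : Type) (_ : Field F) (_ : Fintype F) (n : ℕ), 2 ≤ n ∧ Fintype.card F = (2 ^ n) ^ 2 ∧
        Nonempty (G ≃* Cfsg.PSU 3 F (2 ^ n))) := by
  obtain ⟨L, hn, hi, h⟩ := hrec hS h2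
  have hev : Even (Nat.card G) := even_iff_two_dvd.2
    ((even_iff_two_dvd.1 hS.even_card).trans (Subgroup.card_subgroup_dvd_card Q))
  obtain rfl := eq_top_of_normal_odd_index hev hn hi
  have e : (⊤ : Subgroup G) ≃* G := Subgroup.topEquiv
  rcases h with ⟨F, i1, i2, hF, ⟨φ⟩⟩ | ⟨F, i1, i2, m, hm, hF, ⟨φ⟩⟩ | ⟨F, i1, i2, n, hn2, hF, ⟨φ⟩⟩
  · exact Or.inl ⟨F, i1, i2, hF, ⟨e.symm.trans φ⟩⟩
  · refine Or.inr (Or.inl ⟨inferInstance, m, hm, ?_⟩)
    rw [Nat.card_congr (e.symm.trans φ).toEquiv, (S1163.result hm hF).1]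
    ring
  · exact Or.inr (Or.inr ⟨F, i1, i2, n, hn2, hF, ⟨e.symm.trans φ⟩⟩)

theorem strongly_embedded_setup [IsSimpleGroup G] {H : Subgroup G} (hH : Cfsg.IsStronglyEmbedded H)
    {Q : Subgroup G} (hQH : Q ≤ H) (hQn : (Q.subgroupOf H).Normal)
    (htrans : ∀ g₁ g₂ : G, g₁ ∉ H → g₂ ∉ H → ∃ u ∈ Q, g₂⁻¹ * (u * g₁) ∈ H)
    (hreg : ∀ g : G, g ∉ H → ∀ u ∈ Q, g⁻¹ * (u * g) ∈ H → u = 1) :
    FaithfulSMul G (G ⧸ H) ∧ ∃ t : G, Cfsg.IsRankOneSetup G (G ⧸ H) ((1 : G) : G ⧸ H) t Q := by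
  classical
  obtain ⟨hne, heven, hodd⟩ := hH
  have hcore : H.normalCore = ⊥ :=
    (Subgroup.normalCore_normal H).eq_bot_or_eq_top.resolve_right fun h =>
      hne (top_unique (h ▸ H.normalCore_le))
  have hfaith : FaithfulSMul G (G ⧸ H) := ⟨fun {g₁ g₂} h => by
    have hk : g₁⁻¹ * g₂ ∈ H.normalCore := fun b => by
      have := h ((b⁻¹ : G) : G ⧸ H)
      rw [MulAction.Quotient.smul_coe, MulAction.Quotient.smul_coe, QuotientGroup.eq] at this
      simpa [smul_eq_mul, mul_assoc] using this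
    rw [hcore, Subgroup.mem_bot, inv_mul_eq_one] at hk
    exact hk⟩
  obtain ⟨t, ht, htH⟩ : ∃ t : G, orderOf t = 2 ∧ t ∉ H := by
    by_contra hall
    push Not at hall
    obtain ⟨x, hx⟩ := exists_prime_orderOf_dvd_card' (G := H) 2 (even_iff_two_dvd.1 heven)
    have hx' : orderOf (x : G) = 2 := by rw [Subgroup.orderOf_coe, hx]
    have hmem : (x : G) ∈ H.normalCore := fun b => hall _
      (orderOf_eq_prime (by
        rw [conj_pow, ← hx', pow_orderOf_eq_one]; group) fun e => by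
        rw [conj_eq_one_iff.1 e, orderOf_one] at hx'; omega)
    rw [hcore, Subgroup.mem_bot] at hmem
    rw [hmem, orderOf_one] at hx'; omega
  have hst : stabilizer G ((1 : G) : G ⧸ H) = H := MulAction.stabilizer_quotient H
  have hmk : ∀ g : G, g • ((1 : G) : G ⧸ H) = (g : G ⧸ H) := fun g => by
    rw [MulAction.Quotient.smul_coe, smul_eq_mul, mul_one]
  have hne1 : ∀ g : G, (g : G ⧸ H) ≠ ((1 : G) : G ⧸ H) ↔ g ∉ H := fun g => by
    rw [ne_eq, QuotientGroup.eq]; simp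
  have hmemt : ∀ g : G, g • (t • ((1 : G) : G ⧸ H)) = t • ((1 : G) : G ⧸ H) ↔ t⁻¹ * (g * t) ∈ H :=
    fun g => by
      rw [hmk, MulAction.Quotient.smul_coe, smul_eq_mul, eq_comm, QuotientGroup.eq]
  have htr : MulAction.IsMultiplyPretransitive G (G ⧸ H) 2 := by
    rw [MulAction.is_two_pretransitive_iff]
    intro x y x' y' hxy hxy'
    obtain ⟨g, rfl⟩ := QuotientGroup.mk_surjective x
    obtain ⟨g', rfl⟩ := QuotientGroup.mk_surjective x'
    obtain ⟨p, rfl⟩ := QuotientGroup.mk_surjective y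
    obtain ⟨p', rfl⟩ := QuotientGroup.mk_surjective y'
    rw [ne_eq, QuotientGroup.eq] at hxy hxy'
    obtain ⟨u, hu, hu'⟩ := htrans (g⁻¹ * p) (g'⁻¹ * p') hxy hxy'
    refine ⟨g' * u * g⁻¹, ?_, ?_⟩
    · rw [MulAction.Quotient.smul_coe, smul_eq_mul, eq_comm, QuotientGroup.eq]
      simpa [mul_assoc] using hQH hu
    · rw [MulAction.Quotient.smul_coe, smul_eq_mul, eq_comm, QuotientGroup.eq]
      simpa [mul_assoc] using hu'
  have hconjQ : ∀ h ∈ H, ∀ x ∈ Q, h * x * h⁻¹ ∈ Q := fun h hh x hx => by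
    simpa [Subgroup.mem_subgroupOf] using hQn.conj_mem ⟨x, hQH hx⟩ hx ⟨h, hh⟩
  set D := stabilizer G ((1 : G) : G ⧸ H) ⊓ stabilizer G (t • ((1 : G) : G ⧸ H)) with hD
  have hDodd : Odd (Nat.card D) := by
    have : D = H ⊓ H.map (MulAut.conj t).toMonoidHom := by
      rw [hD, MulAction.stabilizer_smul_eq_stabilizer_map_conj, hst]
    rw [this]; exact hodd t htH
  have hdec : ∀ h ∈ H, ∃ u ∈ Q, u⁻¹ * h ∈ D := fun h hh => by
    have hht : h * t ∉ H := fun h' => htH (by simpa using mul_mem (inv_mem hh) h')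
    obtain ⟨u, hu, hu'⟩ := htrans t (h * t) htH hht
    refine ⟨u, hu, Subgroup.mem_inf.2 ⟨?_, ?_⟩⟩
    · rw [hst]; exact mul_mem (inv_mem (hQH hu)) hh
    · show (u⁻¹ * h) • _ = _
      rw [hmemt]
      simpa [mul_assoc] using inv_mem hu'
  have htt : t * t = 1 := by rw [← pow_two, ← ht, pow_orderOf_eq_one]
  have hdisj : Q ⊓ stabilizer G (t • ((1 : G) : G ⧸ H)) = ⊥ := by
    rw [eq_bot_iff]
    rintro u ⟨hu, hu'⟩
    exact Subgroup.mem_bot.2 (hreg t htH u hu ((hmemt u).1 hu'))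
  have hQle : Q ≤ stabilizer G ((1 : G) : G ⧸ H) := hQH.trans hst.ge
  have hsup : Q ⊔ D = stabilizer G ((1 : G) : G ⧸ H) := by
    refine le_antisymm (sup_le hQle inf_le_left) fun h hh => ?_
    obtain ⟨u, hu, hud⟩ := hdec h (hst ▸ hh)
    rw [show h = u * (u⁻¹ * h) by group]
    exact mul_mem (Subgroup.mem_sup_left hu) (Subgroup.mem_sup_right hud)
  have hQev : Even (Nat.card Q) := by
    by_contra hQ
    rw [Nat.not_even_iff_odd] at hQ
    have hcard : Nat.card H = Nat.card Q * Nat.card D := by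
      rw [← Nat.card_prod]
      refine (Nat.card_congr (Equiv.ofBijective (fun p : Q × D =>
        (⟨(p.1 : G) * p.2, mul_mem (hQH p.1.2) (hst.le (Subgroup.mem_inf.1 p.2.2).1)⟩ : H)) ⟨?_, ?_⟩)).symm
      · rintro ⟨⟨p, hp⟩, ⟨d, hd⟩⟩ ⟨⟨p', hp'⟩, ⟨d', hd'⟩⟩ h
        have h' : p * d = p' * d' := congrArg Subtype.val h
        have h1 : p'⁻¹ * p ∈ Q ⊓ stabilizer G (t • ((1 : G) : G ⧸ H)) :=
          Subgroup.mem_inf.2 ⟨mul_mem (inv_mem hp') hp, by
            rw [show p'⁻¹ * p = d' * d⁻¹ by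
              rw [eq_mul_inv_iff_mul_eq, mul_assoc, h', inv_mul_cancel_left]]
            exact mul_mem (Subgroup.mem_inf.1 hd').2 (inv_mem (Subgroup.mem_inf.1 hd).2)⟩
        rw [hdisj, Subgroup.mem_bot, inv_mul_eq_one] at h1
        subst h1
        obtain rfl := mul_left_cancel h'
        rfl
      · rintro ⟨h, hh⟩
        obtain ⟨u, hu, hud⟩ := hdec h hh
        exact ⟨(⟨u, hu⟩, ⟨_, hud⟩), Subtype.ext (mul_inv_cancel_left u h)⟩
    exact (Nat.not_even_iff_odd.2 (hcard ▸ hQ.mul hDodd)) heven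
  refine ⟨hfaith, t, ⟨htr, htt, fun e => ?_, ?_, hQle, ?_, hdisj, hsup, hQev, hDodd⟩⟩
  · rw [e, orderOf_one] at ht; omega
  · rw [hst]; exact htH
  · intro h hh x hx
    exact hconjQ h (hst ▸ hh) x hx

/-- A simple group with a strongly embedded subgroup doubly transitive with a regular normal
subgroup. -/
theorem strongly_embedded_classification (hrec : Recognition.{u, u}) [IsSimpleGroup G]
    (H : Subgroup G) (hH : Cfsg.IsStronglyEmbedded H) (Q : Subgroup G) (hQH : Q ≤ H)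
    (hQn : (Q.subgroupOf H).Normal)
    (htrans : ∀ g₁ g₂ : G, g₁ ∉ H → g₂ ∉ H → ∃ u ∈ Q, g₂⁻¹ * (u * g₁) ∈ H)
    (hreg : ∀ g : G, g ∉ H → ∀ u ∈ Q, g⁻¹ * (u * g) ∈ H → u = 1) :
    (∃ (F : Type) (_ : Field F) (_ : Fintype F), CharP F 2 ∧ 4 ≤ Fintype.card F ∧
        Nonempty (G ≃* Matrix.ProjectiveSpecialLinearGroup (Fin 2) F)) ∨
      Cfsg.IsSuzuki G ∨
      (∃ (F : Type) (_ : Field F) (_ : Fintype F) (q : ℕ), Fintype.card F = q ^ 2 ∧ Even q ∧ 4 ≤ q ∧
        Nonempty (G ≃* Cfsg.PSU 3 F q)) := by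
  obtain ⟨hf, t, hS⟩ := strongly_embedded_setup hH hQH hQn htrans hreg
  rcases simple_classification hrec hS (exists_two_commuting hH.1 hH.2.1) with
    ⟨F, i1, i2, ⟨n, hn, hF⟩, h⟩ | h | ⟨F, i1, i2, n, hn, hF, h⟩
  · have h4 : (4 : ℕ) ≤ 2 ^ n := le_trans (by norm_num) (Nat.pow_le_pow_right (by norm_num) hn)
    haveI : Fact (Nat.Prime 2) := ⟨Nat.prime_two⟩
    exact Or.inl ⟨F, i1, i2, charP_of_card_eq_prime_pow hF, hF ▸ h4, h⟩
  · exact Or.inr (Or.inl h)
  · refine Or.inr (Or.inr ⟨F, i1, i2, 2 ^ n, hF, Nat.even_pow.2 ⟨even_two, by omega⟩, ?_, h⟩)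
    exact le_trans (by norm_num) (Nat.pow_le_pow_right (by norm_num) hn)

end Cfsg.Agent.H48.RankOne
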