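import Cfsg.Agent.H99.RankOne.Param
import Cfsg.Agent.S1122
import Cfsg.Agent.S1123
import Cfsg.Agent.S1130

/-!
# Rank one, unitary case: the distinguished element is the involution

If `|Q| = q ^ 3`, squares of elements of `Q` square to one and some `omega` has `coef = q - q ^ 2`, then
`t s t = r⁻¹ t r` forces `r = s`.  Otherwise every `kap` on the coset `r Z` is `1`, and the sum of
`kap` over `Q` is too big.
-/

set_option autoImplicit false
set_option linter.unusedSectionVars false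

namespace Cfsg.Agent.H48.RankOne

open MulAction Finset Polynomial
open Cfsg.Agent.H99.RankOne.Hecke
open scoped ComplexConjugate Classical

universe u v

/-- `q` odd roots of unity whose sum plus one is divisible by `q + 1`: the sum is `-1`, or all are one. -/
theorem sum_eq_neg_one_or_all_one {ι : Type*} [Fintype ι] {n : ℕ} (hn : Odd n) (μ : ι → ℂ)
    (hμ : ∀ i, μ i ^ n = 1)
    (hint : IsIntegral ℤ ((1 + ∑ i, μ i) / ((Fintype.card ι + 1 : ℕ) : ℂ))) :
    ∑ i, μ i = -1 ∨ ∀ i, μ i = 1 := by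
  haveI : NeZero n := ⟨hn.pos.ne'⟩
  by_cases hall : ∀ i, μ i = 1
  · exact Or.inr hall
  push Not at hall
  obtain ⟨j, hj⟩ := hall
  left
  obtain ⟨ζ, hζ⟩ : ∃ ζ : ℂ, IsPrimitiveRoot ζ n := ⟨_, Complex.isPrimitiveRoot_exp n hn.pos.ne'⟩
  choose e he using fun i => hζ.eq_pow_of_pow_eq_one (hμ i)
  set A : ℕ := Fintype.card ι + 1
  let P : ℚ[X] := C ((A : ℚ)⁻¹) * (1 + ∑ i, X ^ e i)
  have hP : ∀ η : ℂ, aeval η P = (1 + ∑ i, η ^ e i) / A := fun η => by
    simp [P, div_eq_inv_mul]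
  have hζP : aeval ζ P = (1 + ∑ i, μ i) / A := by
    rw [hP]; simp [fun i => (he i).2]
  have hbound : ∀ η : ℂ, IsPrimitiveRoot η n → ‖aeval η P‖ < 1 := by
    intro η hη
    have hA' : (0 : ℝ) < A := by positivity
    rw [hP, norm_div, Complex.norm_natCast, div_lt_one hA']
    have hne : η ^ e j ≠ 1 := fun h => hj (by
      rw [← (he j).2, hζ.pow_eq_one_iff_dvd]; exact (hη.pow_eq_one_iff_dvd _).1 h)
    have hnorm : ∀ i, ‖η ^ e i‖ = 1 := fun i => Complex.norm_eq_one_of_pow_eq_one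
      (by rw [← pow_mul, mul_comm, pow_mul, hη.pow_eq_one, one_pow]) hn.pos.ne'
    have htwo : ‖1 + η ^ e j‖ < 2 := by
      set w := η ^ e j
      have h1 : w.re * w.re + w.im * w.im = 1 := by
        rw [← Complex.normSq_apply, ← Complex.sq_norm, hnorm j, one_pow]
      have hre : w.re < 1 := by
        by_contra hc
        push Not at hc
        have h0 : w.im = 0 := by nlinarith [mul_self_nonneg w.im]
        have h2 : w.re = 1 := by nlinarith [mul_self_nonneg (w.re - 1)]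
        exact hne (Complex.ext (by simp [h2]) (by simp [h0]))
      have h3 : ‖1 + w‖ ^ 2 = (1 + w.re) * (1 + w.re) + w.im * w.im := by
        rw [Complex.sq_norm, Complex.normSq_apply]; simp
      nlinarith [norm_nonneg (1 + w)]
    rw [← Finset.add_sum_erase univ (fun i => η ^ e i) (mem_univ j), ← add_assoc]
    calc ‖(1 + η ^ e j) + ∑ i ∈ univ.erase j, η ^ e i‖
        ≤ ‖1 + η ^ e j‖ + ∑ i ∈ univ.erase j, ‖η ^ e i‖ :=
          (norm_add_le _ _).trans (add_le_add le_rfl (norm_sum_le _ _))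
      _ < 2 + ∑ i ∈ univ.erase j, (1 : ℝ) := by
          simp only [hnorm]; linarith
      _ = (A : ℝ) := by
          have hc : 1 ≤ Fintype.card ι := Fintype.card_pos_iff.2 ⟨j⟩
          rw [Finset.sum_const, Finset.card_erase_of_mem (mem_univ j), Finset.card_univ,
            nsmul_eq_mul, mul_one]
          simp only [A]
          push_cast [hc]
          ring
  have hz := H99.RankOne.eq_zero_of_conjugates_small P hζ (hζP ▸ hint) hbound
  rw [hζP, div_eq_zero_iff] at hz
  have hA0 : (A : ℂ) ≠ 0 := Nat.cast_ne_zero.2 (by simp [A])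
  linear_combination (hz.resolve_right hA0)

variable {G : Type u} {Ω : Type v} [Group G] [Fintype G] [MulAction G Ω] {a : Ω} {t : G}
  {Q : Subgroup G} (hS : Cfsg.IsRankOneSetup G Ω a t Q)
  {ω : ↥(stabilizer G a ⊓ stabilizer G (t • a)) →* ℂ} (hω : IsGoodHom hS ω)

include hω

theorem el_inverted {k : G} (hk : k ∈ stabilizer G a ⊓ stabilizer G (t • a))
    (hki : t * k * t⁻¹ = k⁻¹) : el hS ω k = 1 ∧ el hS ω k⁻¹ = 1 := by
  have h1 : el hS ω k⁻¹ = el hS ω k := by rw [← hki, el_conj_t hS hω hk]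
  have h2 : el hS ω k * el hS ω k = 1 := by
    have := el_inv_mul hS ω hk.1
    rwa [h1] at this
  have h3 := el_pow_card hS hω hk.1
  obtain ⟨j, hj⟩ := hS.odd_card
  rw [hj, pow_succ, pow_mul, pow_two, h2, one_pow, one_mul] at h3
  exact ⟨h3, h1.trans h3⟩

theorem fl_t_mul_t {y : G} (k : G) (hk : k ∈ stabilizer G a ⊓ stabilizer G (t • a))
    (hki : t * k * t⁻¹ = k⁻¹) :
    fl hS ω (t * (k * y) * t) = fl hS ω (t * y * t) := by
  rw [show t * (k * y) * t = (t * k * t⁻¹) * (t * y * t) by group, fl_left hS ω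
    (H38.t_mem_normalizer_D hS hk).1, hki, (el_inverted hS hω hk hki).2, one_mul]

variable {s r : G} (hs : s ∈ Cfsg.involutionsIn (stabilizer G a : Set G)) (hr : r ∈ Q)
  (he : t * s * t = r⁻¹ * t * r)

include hs hr he

/-- On `r` times an involution of the one-point stabiliser, `kap` is trivial. -/
theorem kap_mul_invol (hcent : ∀ z ∈ Cfsg.involutionsIn (stabilizer G a : Set G), ∀ x ∈ Q,
    z * x = x * z) {z : G} (hz : z ∈ Cfsg.involutionsIn (stabilizer G a : Set G))
    (hzr : r * z ≠ 1) : kap hS ω (r * z) = 1 := by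
  obtain ⟨k, ⟨hk, hki⟩, hks⟩ := (S1122.result hS).2 s hs z hz
  have hzQ : z ∈ Q := H38.invol_mem_Q hS hz.1 hz.2.2
  have htt := hS.mul_self
  have hti := H38.t_inv hS
  have e1 : t * r * t = r * t * s := by
    have h := congrArg (fun g => r * g) he
    simp only [← mul_assoc, mul_inv_cancel, one_mul] at h
    rw [← h, mul_assoc (r * t * s) t t, htt, mul_one]
  have hki' : t * k * t = k⁻¹ := by rw [← hki, hti]
  have hk2 : t * k⁻¹ * t = k := by
    rw [← hki', show t * (t * k * t) * t = (t * t) * k * (t * t) by group, htt, one_mul, mul_one]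
  have e2 : t * z * t = k * (r⁻¹ * t * r) * k⁻¹ := by
    have : t * z * t = (t * k⁻¹ * t) * (t * s * t) * (t * k * t) := by
      rw [← hks]; simp [mul_assoc, ← mul_assoc t t, htt]
    rw [this, hk2, hki', he]
  have e3 : t * (r * z) * t = r * t * (s * k * r⁻¹) * t * (r * k⁻¹) := by
    rw [show t * (r * z) * t = (t * r * t⁻¹) * (t * z * t) by group, hti, e1, e2]
    group
  have hkr : r * k⁻¹ ∈ stabilizer G a := mul_mem (hS.le hr) (inv_mem hk.1)
  have h1 : kap hS ω (r * z) = fl hS ω (t * (s * k * r⁻¹) * t) := by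
    rw [kap, e3, show r * t * (s * k * r⁻¹) * t * (r * k⁻¹) =
      r * (t * (s * k * r⁻¹) * t) * (r * k⁻¹) by group, fl_right hS hω hkr,
      fl_left hS ω (hS.le hr), el_of_mem_Q hS ω hr, el_mul hS ω (hS.le hr) (inv_mem hk.1),
      el_of_mem_Q hS ω hr, (el_inverted hS hω hk hki).2, one_mul, mul_one, mul_one]
  have h2 : s * k * r⁻¹ = k * (r * z)⁻¹ := by
    rw [mul_inv_rev, inv_eq_of_mul_eq_one_right hz.2.2, ← hks]; group
  rw [h2, fl_t_mul_t hS hω k hk hki] at h1
  have h3 : kap hS ω (r * z) = conj (kap hS ω (r * z)) := h1.trans (kap_inv hS hω (r * z))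
  have hQ : r * z ∈ Q := mul_mem hr hzQ
  have hn := norm_kap hS hω hQ hzr
  have hpow := kap_pow_card hS hω hQ hzr
  set w := kap hS ω (r * z)
  have hre : w = ((w.re : ℝ) : ℂ) := (Complex.conj_eq_iff_re.1 h3.symm).symm
  rw [hre] at hpow hn ⊢
  rw [Complex.norm_real, Real.norm_eq_abs] at hn
  rcases abs_eq (by norm_num : (0 : ℝ) ≤ 1) |>.1 hn with hw | hw
  · rw [hw]; norm_num
  · rw [hw] at hpow
    push_cast at hpow
    rw [hS.odd_card.neg_one_pow] at hpow
    norm_num at hpow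

omit hs hr he

variable {q : ℕ} (hcard : Nat.card Q = q ^ 3) (hq0 : 0 < q)
  (hcoef : coef hS ω = (q : ℂ) - (q : ℂ) ^ 2)

include hcard hq0 hcoef

theorem isParam_q : IsParam hS ω ((q * 1 : ℕ) : ℂ) ((q * q : ℕ) : ℂ) where
  mul := by rw [hcard]; push_cast; ring
  sub := by rw [hcoef]; push_cast; ring
  add := by exact_mod_cast (by positivity : 0 < q * 1 + q * q).ne'

/-- Every sum over conjugates has real part at least `-q²`. -/
theorem conjSum_re {x : G} (hx : x ∈ Q) (hx1 : x ≠ 1)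
    (hclass : Nat.card {y : G | ∃ w ∈ Q, w * x * w⁻¹ = y} ≤ q)
    (hpow : ∃ i, Nat.card {y : G | ∃ w ∈ Q, w * x * w⁻¹ = y} = 2 ^ i) (hqpow : ∃ k, q = 2 ^ k) :
    -((q : ℝ) ^ 2) ≤ (conjSum hS ω x).re := by
  have hp := isParam_q hS hω hcard hq0 hcoef
  set C := {y : G | ∃ w ∈ Q, w * x * w⁻¹ = y} with hC
  have hall : ∀ {f : Q → ℂ}, (∀ w, f w = 1) → -((q : ℝ) ^ 2) ≤ (∑ w, f w).re := by
    intro f hf
    simp only [hf, Finset.sum_const, nsmul_eq_mul, mul_one, Complex.natCast_re]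
    nlinarith [sq_nonneg (q : ℝ), (Nat.cast_nonneg (univ : Finset Q).card : (0 : ℝ) ≤ _)]
  have hmemC : ∀ w : Q, (w : G) * x * (w : G)⁻¹ ∈ C := fun w => ⟨w, w.2, rfl⟩
  have hCQ : ∀ y ∈ C, y ∈ Q ∧ y ≠ 1 := by
    rintro y ⟨w, hw, rfl⟩
    exact ⟨mul_mem (mul_mem hw hx) (inv_mem hw), fun h => hx1 (conj_eq_one_iff.1 h)⟩
  by_cases hsmall : Nat.card C < q
  · refine hall fun w => ?_
    obtain ⟨hwQ, hw1⟩ := hCQ _ (hmemC w)
    have hCeq : {y : G | ∃ u ∈ Q, u * ((w : G) * x * (w : G)⁻¹) * u⁻¹ = y} = C := by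
      ext y
      constructor
      · rintro ⟨u, hu, rfl⟩
        exact ⟨u * w, mul_mem hu w.2, by group⟩
      · rintro ⟨u, hu, rfl⟩
        exact ⟨u * (w : G)⁻¹, mul_mem hu (inv_mem w.2), by group⟩
    refine kap_eq_one_of_small hS hω hq0 one_pos hq0 (Nat.coprime_one_left q)
      ⟨1, by ring⟩ hp hwQ hw1 ?_
    rw [hCeq]
    obtain ⟨i, hi⟩ := hpow
    obtain ⟨k, hk⟩ := hqpow
    rw [hi, hk] at hsmall ⊢
    have hik : i < k := (Nat.pow_lt_pow_iff_right (by norm_num)).1 hsmall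
    have : 2 ^ (i + 1) ≤ 2 ^ k := Nat.pow_le_pow_right (by norm_num) hik
    rw [pow_succ] at this
    omega
  have hCq : Nat.card C = q := le_antisymm hclass (not_lt.1 hsmall)
  have hcq : Fintype.card C = q := by rw [← Nat.card_eq_fintype_card, hCq]
  let σ : ℂ := ∑ y : C, kap hS ω (y : G)
  have hperm : ∀ w : Q, ∑ y : C, kap hS ω ((w : G) * (y : G) * (w : G)⁻¹) = σ := by
    intro w
    let e : C ≃ C :=
      { toFun := fun y => ⟨(w : G) * y * (w : G)⁻¹, by
          obtain ⟨z, hz, hzy⟩ := y.2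
          exact ⟨w * z, mul_mem w.2 hz, by rw [← hzy]; group⟩⟩
        invFun := fun y => ⟨(w : G)⁻¹ * y * (w : G), by
          obtain ⟨z, hz, hzy⟩ := y.2
          exact ⟨(w : G)⁻¹ * z, mul_mem (inv_mem w.2) hz, by rw [← hzy]; group⟩⟩
        left_inv := fun y => Subtype.ext (by simp [mul_assoc])
        right_inv := fun y => Subtype.ext (by simp [mul_assoc]) }
    exact Fintype.sum_equiv e _ _ fun y => rfl
  have hsum : (q : ℂ) * conjSum hS ω x = (q : ℂ) ^ 3 * σ := by
    have h : ∑ y : C, conjSum hS ω (y : G) = (q : ℂ) ^ 3 * σ := by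
      simp only [conjSum]
      rw [Finset.sum_comm, Finset.sum_congr rfl fun w _ => hperm w, Finset.sum_const,
        Finset.card_univ, ← Nat.card_eq_fintype_card, hcard, nsmul_eq_mul]
      push_cast; rfl
    rw [← h, Finset.sum_congr rfl (fun (y : C) _ => show conjSum hS ω (y : G) = conjSum hS ω x by
      obtain ⟨y, w, hw, rfl⟩ := y
      exact Fintype.sum_equiv (Equiv.mulRight (⟨w, hw⟩ : Q)) _ _ fun z => by simp [mul_assoc]),
      Finset.sum_const, Finset.card_univ, hcq, nsmul_eq_mul]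
  have hqC : (q : ℂ) ≠ 0 := Nat.cast_ne_zero.2 hq0.ne'
  have hcs : conjSum hS ω x = (q : ℂ) ^ 2 * σ := by
    apply mul_left_cancel₀ hqC
    rw [hsum]; ring
  have hchi := chi_Q hS hω (inv_mem hx) (inv_ne_one.2 hx1) ((q * 1 : ℕ) : ℂ) ((q * q : ℕ) : ℂ)
  rw [inv_inv, hcs] at hchi
  have hint := CharBasic.IsChar.isIntegral (isCharacter_chi hS hω hp) x⁻¹
  rw [hchi] at hint
  have hσint : IsIntegral ℤ σ := IsIntegral.sum _ fun y _ => isIntegral_kap hS hω (hCQ y y.2).1
  have h1 : IsIntegral ℤ ((1 + σ) / ((Fintype.card C + 1 : ℕ) : ℂ)) := by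
    rw [hcq]
    have hq1 : (q : ℂ) + 1 ≠ 0 := by exact_mod_cast Nat.succ_ne_zero q
    have e : (1 + σ) / ((q + 1 : ℕ) : ℂ) = (1 + σ) -
        (((q * q : ℕ) : ℂ) + (q : ℂ) ^ 2 * σ) / (((q * 1 : ℕ) : ℂ) + ((q * q : ℕ) : ℂ)) := by
      push_cast
      rw [show ((q : ℂ) * 1 + q * q) = q * (q + 1) by ring]
      field_simp
      ring
    rw [e]
    exact (isIntegral_one.add hσint).sub hint
  rcases sum_eq_neg_one_or_all_one hS.odd_card (fun y : C => kap hS ω (y : G))
    (fun y => kap_pow_card hS hω (hCQ y y.2).1 (hCQ y y.2).2) h1 with h | h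
  · rw [hcs, show σ = -1 from h]
    simp [pow_two]
  · exact hall fun w => h ⟨_, hmemC w⟩

include hs hr he

/-- The distinguished element is the involution. -/
theorem eq_invol [FaithfulSMul G Ω]
    (h2 : ∃ x y : G, x ≠ 1 ∧ y ≠ 1 ∧ x ≠ y ∧ x * x = 1 ∧ y * y = 1 ∧ x * y = y * x)
    (hq : q = Nat.card (Cfsg.involutionsIn (stabilizer G a : Set G)) + 1)
    (hsq : ∀ x ∈ Q, (x * x) * (x * x) = 1) : r = s := by
  have h1130 := S1130.result hS h2
  have hcent : ∀ z ∈ Cfsg.involutionsIn (stabilizer G a : Set G), ∀ x ∈ Q, z * x = x * z :=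
    fun z hz => (h1130.1 z hz).2
  -- the elements of order at most two of `Q`
  let Z : Subgroup G :=
    { carrier := {z | z ∈ Q ∧ z * z = 1}
      one_mem' := ⟨one_mem _, one_mul 1⟩
      mul_mem' := by
        rintro x y ⟨hx, hx2⟩ ⟨hy, hy2⟩
        rcases eq_or_ne x 1 with rfl | hx1
        · rw [one_mul]; exact ⟨hy, hy2⟩
        have hc := hcent x ⟨hS.le hx, hx1, hx2⟩ y hy
        refine ⟨mul_mem hx hy, ?_⟩
        rw [show x * y * (x * y) = x * (y * x) * y by group, ← hc,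
          show x * (x * y) * y = (x * x) * (y * y) by group, hx2, hy2, one_mul]
      inv_mem' := by
        rintro x ⟨hx, hx2⟩
        rw [inv_eq_of_mul_eq_one_right hx2]; exact ⟨hx, hx2⟩ }
  have hZc : ∀ z ∈ Z, ∀ x ∈ Q, z * x = x * z := fun z hz x hx => by
    rcases eq_or_ne z 1 with rfl | hz1
    · rw [one_mul, mul_one]
    · exact hcent z ⟨hS.le hz.1, hz1, hz.2⟩ x hx
  have hcZ : Nat.card Z = q := by
    have e : (Z : Set G) = insert 1 (Cfsg.involutionsIn (stabilizer G a : Set G)) := by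
      ext z
      constructor
      · intro hz
        by_cases hz1 : z = 1
        · exact Or.inl hz1
        · exact Or.inr ⟨hS.le hz.1, hz1, hz.2⟩
      · rintro (rfl | hz)
        · exact one_mem Z
        · exact ⟨H38.invol_mem_Q hS hz.1 hz.2.2, hz.2.2⟩
    rw [← SetLike.coe_sort_coe, e, Nat.card_coe_set_eq,
      Set.ncard_insert_of_notMem (fun h => h.2.1 rfl), ← Nat.card_coe_set_eq, hq]
  have hsqZ : ∀ x ∈ Q, x * x ∈ Z := fun x hx => ⟨mul_mem hx hx, hsq x hx⟩
  have hcomm : ∀ w ∈ Q, ∀ x ∈ Q, w * x * w⁻¹ * x⁻¹ ∈ Z := by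
    intro w hw x hx
    rw [show w * x * w⁻¹ * x⁻¹ = (w * w) * ((w⁻¹ * x) * (w⁻¹ * x)) * (x * x)⁻¹ by group]
    exact mul_mem (mul_mem (hsqZ w hw) (hsqZ _ (mul_mem (inv_mem hw) hx))) (inv_mem (hsqZ x hx))
  have hQp : IsPGroup 2 Q := fun x => ⟨2, Subtype.ext (by
    rw [SubgroupClass.coe_pow, OneMemClass.coe_one, show (2 : ℕ) ^ 2 = 2 * 2 by norm_num, pow_mul,
      pow_two, pow_two, hsq x x.2])⟩
  have hZle : Z ≤ Q := fun z hz => hz.1
  obtain ⟨k, hk⟩ : ∃ k, q = 2 ^ k := by
    obtain ⟨k, hk⟩ := (hQp.to_le hZle).exists_card_eq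
    exact ⟨k, hcZ ▸ hk⟩
  have hclass : ∀ x ∈ Q, Nat.card {y : G | ∃ w ∈ Q, w * x * w⁻¹ = y} ≤ q ∧
      ∃ i, Nat.card {y : G | ∃ w ∈ Q, w * x * w⁻¹ = y} = 2 ^ i := by
    intro x hx
    refine ⟨?_, ?_⟩
    · rw [← hcZ]
      refine Nat.card_le_card_of_injective (fun y => (⟨(y : G) * x⁻¹, ?_⟩ : Z)) fun y y' h => ?_
      · obtain ⟨w, hw, hy⟩ := y.2
        rw [← hy]; exact hcomm w hw x hx
      · exact Subtype.ext (mul_right_cancel (congrArg Subtype.val h))
    · obtain ⟨i, hi⟩ := (hQp.of_equiv (ConjAct.toConjAct : Q ≃* ConjAct Q)).card_orbit (⟨x, hx⟩ : Q)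
      refine ⟨i, ?_⟩
      rw [← hi]
      refine Nat.card_congr (Equiv.symm (Equiv.ofBijective (fun y => ⟨((y : Q) : G), ?_⟩) ⟨?_, ?_⟩))
      · obtain ⟨w, hw⟩ := y.2
        exact ⟨(ConjAct.ofConjAct w : Q), SetLike.coe_mem _, by rw [← hw]; rfl⟩
      · intro y y' h
        exact Subtype.ext (Subtype.ext (congrArg (fun z : {y : G | ∃ w ∈ Q, w * x * w⁻¹ = y} => (z : G)) h))
      · rintro ⟨y, w, hw, rfl⟩
        exact ⟨⟨⟨w * x * w⁻¹, mul_mem (mul_mem hw hx) (inv_mem hw)⟩,
          ConjAct.toConjAct (⟨w, hw⟩ : Q), rfl⟩, rfl⟩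
  by_contra hrs
  have hr1 : r ≠ 1 := by
    rintro rfl
    rw [inv_one, one_mul, mul_one] at he
    exact hS.not_mem (show t ∈ stabilizer G a from by
      have hst : s = t := by
        have := congrArg (fun g => t * g * t) he
        simpa [mul_assoc, hS.mul_self, ← mul_assoc t t] using this
      rw [← hst]; exact hs.1)
  have hrZ : r ∉ Z := by
    intro hrZ
    apply hrs
    obtain ⟨k', ⟨hk', hki⟩, hks⟩ := (S1122.result hS).2 s hs r ⟨hS.le hr, hr1, hrZ.2⟩
    have htt := hS.mul_self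
    have hti := H38.t_inv hS
    have hki' : t * k' * t = k'⁻¹ := by rw [← hki, hti]
    have hk2 : t * k'⁻¹ * t = k' := by
      rw [← hki', show t * (t * k' * t) * t = (t * t) * k' * (t * t) by group, htt, one_mul, mul_one]
    have e1 : t * r * t = r * t * s := by
      have h := congrArg (fun g => r * g) he
      simp only [← mul_assoc, mul_inv_cancel, one_mul] at h
      rw [← h, mul_assoc (r * t * s) t t, htt, mul_one]
    have e2 : t * r * t = (k' * r⁻¹ * k'⁻¹) * (k' * k') * t * (k' * r * k'⁻¹) := by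
      have : t * r * t = (t * k'⁻¹ * t) * (t * s * t) * (t * k' * t) := by
        rw [← hks]; simp [mul_assoc, ← mul_assoc t t, htt]
      rw [this, hk2, hki', he]
      have h4 : t * k' = k'⁻¹ * t := by rw [← hki', mul_assoc (t * k') t t, htt, mul_one]
      rw [show (k' * r⁻¹ * k'⁻¹) * (k' * k') * t * (k' * r * k'⁻¹) =
        k' * r⁻¹ * (k' * t * k') * r * k'⁻¹ by group,
        show k' * t * k' = t by rw [mul_assoc, h4, mul_inv_cancel_left]]
      group
    obtain ⟨-, h, -⟩ := H38.canon_unique' hS hr (hS.conj_mem k' hk'.1 _ (inv_mem hr))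
      (one_mem _) (mul_mem hk' hk') (hs.1 |> fun h => H38.invol_mem_Q hS h hs.2.2)
      (hS.conj_mem k' hk'.1 r hr) ((mul_one r).symm ▸ e1.symm.trans e2)
    have hk1 := H38.eq_one_of_mul_self_eq_one hS.odd_card hk' h.symm
    rw [hk1] at hks
    simpa using hks.symm
  -- on the coset `r Z`
  have hrz : ∀ z ∈ Z, r * z ≠ 1 := fun z hz h => hrZ (by
    rw [show r = z⁻¹ from eq_inv_of_mul_eq_one_left h]; exact inv_mem hz)
  have hkrZ : ∀ z ∈ Z, kap hS ω (r * z) = 1 := by
    intro z hz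
    rcases eq_or_ne z 1 with rfl | hz1
    · rw [mul_one, kap, show t * r * t = r * t * s by
        have h := congrArg (fun g => r * g) he
        simp only [← mul_assoc, mul_inv_cancel, one_mul] at h
        rw [← h, mul_assoc (r * t * s) t t, hS.mul_self, mul_one],
        fl_right hS hω hs.1, fl_left hS ω (hS.le hr), fl_t, el_of_mem_Q hS ω hr,
        el_of_mem_Q hS ω (H38.invol_mem_Q hS hs.1 hs.2.2), one_mul, one_mul]
    · exact kap_mul_invol hS hω hs hr he hcent ⟨hS.le hz.1, hz1, hz.2⟩ (hrz z hz)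
  -- the total
  have htot : ∑ x : Q, conjSum hS ω (x : G) = (q : ℂ) ^ 3 * coef hS ω := by
    simp only [conjSum]
    rw [Finset.sum_comm]
    have : ∀ w : Q, ∑ x : Q, kap hS ω ((w : G) * (x : G) * (w : G)⁻¹) = coef hS ω := fun w =>
      Fintype.sum_equiv ((MulAut.conj w).toEquiv) _ _ fun x => rfl
    rw [Finset.sum_congr rfl fun w _ => this w, Finset.sum_const, Finset.card_univ,
      ← Nat.card_eq_fintype_card, hcard, nsmul_eq_mul]
    push_cast; rfl
  let T : Finset Q := univ.filter fun x => (x : G) ∈ Z ∧ x ≠ 1 ∨ r⁻¹ * (x : G) ∈ Z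
  have hT : ∀ x ∈ T, (conjSum hS ω (x : G)).re = (q : ℝ) ^ 3 := by
    intro x hx
    have h1 : ∀ w : Q, kap hS ω ((w : G) * x * (w : G)⁻¹) = 1 := by
      intro w
      rcases (Finset.mem_filter.1 hx).2 with ⟨hz, hx1⟩ | hz
      · rw [mul_assoc, hZc _ hz _ (inv_mem w.2), ← mul_assoc, mul_inv_cancel, one_mul]
        exact kap_invol hS hω ⟨hS.le x.2, fun e => hx1 (Subtype.ext e), hz.2⟩
      · have hd : r⁻¹ * ((w : G) * x * (w : G)⁻¹) ∈ Z := by
          rw [show r⁻¹ * ((w : G) * x * (w : G)⁻¹) =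
            r⁻¹ * ((w : G) * x * (w : G)⁻¹ * (x : G)⁻¹) * r * (r⁻¹ * x) by group]
          have hc := hcomm w w.2 x x.2
          refine mul_mem ?_ hz
          rw [mul_assoc, hZc _ hc r hr, ← mul_assoc, inv_mul_cancel, one_mul]
          exact hc
        have := hkrZ _ hd
        rwa [mul_inv_cancel_left] at this
    simp only [conjSum, h1, Finset.sum_const, Finset.card_univ, ← Nat.card_eq_fintype_card, hcard,
      nsmul_eq_mul, mul_one]
    push_cast
    rw [← Complex.ofReal_natCast, ← Complex.ofReal_pow, Complex.ofReal_re]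
  have hTcard : T.card + 1 = 2 * q := by
    let A : Finset Q := univ.filter fun x => (x : G) ∈ Z
    let B : Finset Q := univ.filter fun x => r⁻¹ * (x : G) ∈ Z
    have hA : A.card = q := by
      rw [← hcZ, Nat.card_eq_fintype_card, ← Fintype.card_subtype]
      exact Fintype.card_congr
        { toFun := fun x => ⟨_, x.2⟩
          invFun := fun z => ⟨⟨z, hZle z.2⟩, z.2⟩
          left_inv := fun x => rfl
          right_inv := fun z => rfl }
    have hB : B.card = q := by
      rw [← hcZ, Nat.card_eq_fintype_card, ← Fintype.card_subtype]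
      exact Fintype.card_congr
        { toFun := fun x => ⟨_, x.2⟩
          invFun := fun z => ⟨⟨r * z, mul_mem hr (hZle z.2)⟩, by simp [z.2]⟩
          left_inv := fun x => Subtype.ext (Subtype.ext (by simp))
          right_inv := fun z => Subtype.ext (by simp) }
    have hd : Disjoint A B := Finset.disjoint_left.2 fun x h1 h2 => hrZ (by
      have h := mul_mem (Finset.mem_filter.1 h1).2 (inv_mem (Finset.mem_filter.1 h2).2)
      simpa using h)
    have hTe : insert (1 : Q) T = A ∪ B := by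
      ext x
      simp only [T, A, B, Finset.mem_insert, Finset.mem_union, Finset.mem_filter, mem_univ, true_and]
      constructor
      · rintro (rfl | ⟨h, -⟩ | h)
        · exact Or.inl (one_mem Z)
        · exact Or.inl h
        · exact Or.inr h
      · rintro (h | h)
        · by_cases hx : x = 1
          · exact Or.inl hx
          · exact Or.inr (Or.inl ⟨h, hx⟩)
        · exact Or.inr (Or.inr h)
    have h1T : (1 : Q) ∉ T := by
      simp only [T, Finset.mem_filter, mem_univ, true_and, OneMemClass.coe_one, mul_one]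
      rintro (⟨-, h⟩ | h)
      · exact h rfl
      · exact hrZ (inv_mem_iff.1 h)
    rw [← Finset.card_insert_of_notMem h1T, hTe, Finset.card_union_of_disjoint hd, hA, hB]
    ring
  have hlow : ∀ x : Q, (if x = 1 then (0 : ℝ) else if x ∈ T then (q : ℝ) ^ 3 else -((q : ℝ) ^ 2)) ≤
      (conjSum hS ω (x : G)).re := by
    intro x
    split_ifs with h1 hxT
    · subst h1
      simp [conjSum, kap_one hS hω]
    · exact (hT x hxT).ge
    · exact conjSum_re hS hω hcard hq0 hcoef x.2 (fun e => h1 (Subtype.ext e))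
        (hclass x x.2).1 (hclass x x.2).2 ⟨k, hk⟩
  have hle := Finset.sum_le_sum (s := (univ : Finset Q)) fun x _ => hlow x
  rw [← Complex.re_sum, htot, hcoef] at hle
  have hsplit : ∑ x : Q, (if x = 1 then (0 : ℝ) else if x ∈ T then (q : ℝ) ^ 3 else -((q : ℝ) ^ 2)) =
      ((q : ℝ) ^ 3 + (q : ℝ) ^ 2) * T.card - (q : ℝ) ^ 2 * ((q : ℝ) ^ 3 - 1) := by
    have e : ∀ x : Q, (if x = 1 then (0 : ℝ) else if x ∈ T then (q : ℝ) ^ 3 else -((q : ℝ) ^ 2)) =
        -((q : ℝ) ^ 2) + (if x = 1 then (q : ℝ) ^ 2 else 0) +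
          (if x ∈ T then (q : ℝ) ^ 3 + (q : ℝ) ^ 2 else 0) := by
      intro x
      by_cases h1 : x = 1
      · subst h1
        have : (1 : Q) ∉ T := by
          simp only [T, Finset.mem_filter, mem_univ, true_and, OneMemClass.coe_one, mul_one]
          rintro (⟨-, h⟩ | h)
          · exact h rfl
          · exact hrZ (inv_mem_iff.1 h)
        simp [this]
      · by_cases h : x ∈ T <;> simp [h1, h]
    simp only [e, Finset.sum_add_distrib, Finset.sum_const, Finset.card_univ, Finset.sum_ite_eq',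
      mem_univ, if_true, Finset.sum_ite_mem, Finset.univ_inter, nsmul_eq_mul,
      ← Nat.card_eq_fintype_card, hcard]
    push_cast
    ring
  rw [hsplit, ← Complex.ofReal_natCast, ← Complex.ofReal_pow, ← Complex.ofReal_pow,
    ← Complex.ofReal_sub, ← Complex.ofReal_mul, Complex.ofReal_re] at hle
  have hTc : ((T.card : ℝ)) + 1 = 2 * (q : ℝ) := by exact_mod_cast hTcard
  have hq1 : (1 : ℝ) ≤ q := by exact_mod_cast hq0
  rw [show (T.card : ℝ) = 2 * (q : ℝ) - 1 by linarith] at hle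
  nlinarith [pow_pos (lt_of_lt_of_le one_pos hq1) 3, pow_pos (lt_of_lt_of_le one_pos hq1) 4]

end Cfsg.Agent.H48.RankOne
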